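import Mathlib
import Cfsg.Prelude.Def_GeometricClasses

set_option autoImplicit false

/-! # The monomial group is maximal in `SL_n(q)`: shared vocabulary -/

namespace Cfsg.Agent.Lib.Helper94.Mono

open Cfsg Cfsg.Geo Matrix
open scoped MatrixGroups

variable {ι : Type} [Fintype ι] [DecidableEq ι] {F : Type*} [Field F]

/-- `g e_j = d j • e_(σ j)` with all `d j ≠ 0` -/
def IsMono (g : Matrix ι ι F) : Prop :=
  ∃ (σ : Equiv.Perm ι) (d : ι → F), (∀ j, d j ≠ 0) ∧ ∀ i j, g i j = if i = σ j then d j else 0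

lemma IsMono.mul {g h : Matrix ι ι F} (hg : IsMono g) (hh : IsMono h) : IsMono (g * h) := by
  obtain ⟨σ, d, hd, hg⟩ := hg
  obtain ⟨τ, e, he, hh⟩ := hh
  refine ⟨σ * τ, fun j => d (τ j) * e j, fun j => mul_ne_zero (hd _) (he _), fun i j => ?_⟩
  rw [Matrix.mul_apply, Finset.sum_eq_single (τ j)]
  · rw [hg, hh, if_pos rfl, Equiv.Perm.mul_apply]
    split_ifs <;> simp
  · intro k _ hk
    rw [hh, if_neg hk, mul_zero]
  · intro h
    exact absurd (Finset.mem_univ _) h

lemma IsMono.one : IsMono (1 : Matrix ι ι F) :=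
  ⟨1, fun _ => 1, fun _ => one_ne_zero, fun i j => by rw [Matrix.one_apply, Equiv.Perm.one_apply]⟩

lemma IsMono.exists_inv {g : Matrix ι ι F} (hg : IsMono g) : ∃ h, IsMono h ∧ g * h = 1 := by
  obtain ⟨σ, d, hd, hg⟩ := hg
  refine ⟨Matrix.of fun i j => if i = σ⁻¹ j then (d (σ⁻¹ j))⁻¹ else 0,
    ⟨σ⁻¹, fun j => (d (σ⁻¹ j))⁻¹, fun j => inv_ne_zero (hd _), fun i j => rfl⟩, ?_⟩
  ext i j
  rw [Matrix.mul_apply, Finset.sum_eq_single (σ⁻¹ j)]
  · rw [hg, Matrix.of_apply, if_pos rfl, show σ (σ⁻¹ j) = j from by simp, Matrix.one_apply]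
    split_ifs
    · exact mul_inv_cancel₀ (hd _)
    · simp
  · intro k _ hk
    rw [Matrix.of_apply, if_neg hk, mul_zero]
  · intro h
    exact absurd (Finset.mem_univ _) h

/-- the monomial subgroup of `GL ι F` -/
def Mon (ι : Type) [Fintype ι] [DecidableEq ι] (F : Type*) [Field F] : Subgroup (GL ι F) where
  carrier := {g | IsMono (g : Matrix ι ι F)}
  mul_mem' {a b} ha hb := by
    show IsMono ((a * b : GL ι F) : Matrix ι ι F)
    rw [Units.val_mul]
    exact IsMono.mul ha hb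
  one_mem' := IsMono.one
  inv_mem' {a} ha := by
    show IsMono ((a⁻¹ : GL ι F) : Matrix ι ι F)
    obtain ⟨h, hh, hah⟩ := IsMono.exists_inv ha
    have : ((a⁻¹ : GL ι F) : Matrix ι ι F) = h := by
      calc ((a⁻¹ : GL ι F) : Matrix ι ι F) = ((a⁻¹ : GL ι F) : Matrix ι ι F) * ((a : Matrix ι ι F) * h) := by
            rw [hah, mul_one]
        _ = h := by rw [← mul_assoc, ← Units.val_mul, inv_mul_cancel, Units.val_one, one_mul]
    rw [this]
    exact hh

lemma mem_Mon {g : GL ι F} : g ∈ Mon ι F ↔ IsMono (g : Matrix ι ι F) := Iff.rfl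

/-- the matrix `A` is (the matrix of) an element of `G` -/
def InG (G : Subgroup (GL ι F)) (A : Matrix ι ι F) : Prop := ∃ g ∈ G, (g : Matrix ι ι F) = A

/-- `G` contains a non-trivial elementary transvection -/
def Tv (G : Subgroup (GL ι F)) : Prop :=
  ∃ i j : ι, i ≠ j ∧ ∃ c : F, c ≠ 0 ∧ InG G (Matrix.transvection i j c)

/-- every element of `K` fixing the line `<e_i0>` is monomial -/
def FixMono (K : Subgroup (GL ι F)) (i0 : ι) : Prop :=
  ∀ x ∈ K, (∀ i, i ≠ i0 → (x : Matrix ι ι F) i i0 = 0) → x ∈ Mon ι F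

/-- the number of non-zero coordinates -/
noncomputable def wt (v : ι → F) : ℕ := by
  classical exact (Finset.univ.filter fun i => v i ≠ 0).card

/-- `y ↦ diag(1, y)` -/
def embM {k : ℕ} (y : Matrix (Fin k) (Fin k) F) : Matrix (Fin (k + 1)) (Fin (k + 1)) F :=
  fun i j => Fin.cases (Fin.cases 1 (fun _ => 0) j) (fun i' => Fin.cases 0 (fun j' => y i' j') j) i

@[simp] lemma embM_zero_zero {k : ℕ} (y : Matrix (Fin k) (Fin k) F) : embM y 0 0 = 1 := rfl
@[simp] lemma embM_zero_succ {k : ℕ} (y : Matrix (Fin k) (Fin k) F) (j : Fin k) :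
    embM y 0 j.succ = 0 := rfl
@[simp] lemma embM_succ_zero {k : ℕ} (y : Matrix (Fin k) (Fin k) F) (i : Fin k) :
    embM y i.succ 0 = 0 := rfl
@[simp] lemma embM_succ_succ {k : ℕ} (y : Matrix (Fin k) (Fin k) F) (i j : Fin k) :
    embM y i.succ j.succ = y i j := rfl

lemma embM_mul {k : ℕ} (y z : Matrix (Fin k) (Fin k) F) : embM (y * z) = embM y * embM z := by
  ext i j
  rw [Matrix.mul_apply, Fin.sum_univ_succ]
  refine Fin.cases ?_ (fun i' => ?_) i <;> refine Fin.cases ?_ (fun j' => ?_) j <;>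
    simp [Matrix.mul_apply]

lemma embM_one {k : ℕ} : embM (1 : Matrix (Fin k) (Fin k) F) = 1 := by
  ext i j
  refine Fin.cases ?_ (fun i' => ?_) i <;> refine Fin.cases ?_ (fun j' => ?_) j <;>
    simp [Matrix.one_apply, Fin.succ_ne_zero, (Fin.succ_ne_zero _).symm]

/-- `{y : diag(1, y) ∈ K}` -/
def sub1 {k : ℕ} (K : Subgroup (GL (Fin (k + 1)) F)) : Subgroup (GL (Fin k) F) where
  carrier := {y | InG K (embM (y : Matrix (Fin k) (Fin k) F))}
  mul_mem' {a b} ha hb := by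
    obtain ⟨g, hg, hga⟩ := ha
    obtain ⟨h, hh, hhb⟩ := hb
    exact ⟨g * h, K.mul_mem hg hh, by rw [Units.val_mul, hga, hhb, Units.val_mul, embM_mul]⟩
  one_mem' := ⟨1, K.one_mem, by rw [Units.val_one, Units.val_one, embM_one]⟩
  inv_mem' {a} ha := by
    obtain ⟨g, hg, hga⟩ := ha
    refine ⟨g⁻¹, K.inv_mem hg, ?_⟩
    have h1 : (g : Matrix (Fin (k + 1)) (Fin (k + 1)) F) *
        embM ((a⁻¹ : GL (Fin k) F) : Matrix (Fin k) (Fin k) F) = 1 := by
      rw [hga, ← embM_mul, ← Units.val_mul, mul_inv_cancel, Units.val_one, embM_one]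
    calc ((g⁻¹ : GL (Fin (k + 1)) F) : Matrix (Fin (k + 1)) (Fin (k + 1)) F)
        = ((g⁻¹ : GL (Fin (k + 1)) F) : Matrix (Fin (k + 1)) (Fin (k + 1)) F) *
          ((g : Matrix (Fin (k + 1)) (Fin (k + 1)) F) *
            embM ((a⁻¹ : GL (Fin k) F) : Matrix (Fin k) (Fin k) F)) := by rw [h1, mul_one]
      _ = _ := by rw [← mul_assoc, ← Units.val_mul, inv_mul_cancel, Units.val_one, one_mul]

lemma mem_sub1 {k : ℕ} {K : Subgroup (GL (Fin (k + 1)) F)} {y : GL (Fin k) F} :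
    y ∈ sub1 K ↔ InG K (embM (y : Matrix (Fin k) (Fin k) F)) := Iff.rfl

/-- the group induced on `V/<e_0>` by the stabiliser of `<e_0>` in `G` -/
def quo1 {k : ℕ} (G : Subgroup (GL (Fin (k + 1)) F)) : Subgroup (GL (Fin k) F) where
  carrier := {y | ∃ g ∈ G, (∀ i : Fin k, (g : Matrix (Fin (k + 1)) (Fin (k + 1)) F) i.succ 0 = 0) ∧
    ∀ i j : Fin k, (g : Matrix (Fin (k + 1)) (Fin (k + 1)) F) i.succ j.succ = (y : Matrix (Fin k) (Fin k) F) i j}
  mul_mem' {a b} ha hb := by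
    obtain ⟨g, hg, hg0, hga⟩ := ha
    obtain ⟨h, hh, hh0, hhb⟩ := hb
    refine ⟨g * h, G.mul_mem hg hh, fun i => ?_, fun i j => ?_⟩
    · rw [Units.val_mul, Matrix.mul_apply, Fin.sum_univ_succ, hg0, zero_mul, zero_add]
      exact Finset.sum_eq_zero fun l _ => by rw [hh0, mul_zero]
    · rw [Units.val_mul, Matrix.mul_apply, Fin.sum_univ_succ, hg0, zero_mul, zero_add, Units.val_mul,
        Matrix.mul_apply]
      exact Finset.sum_congr rfl fun l _ => by rw [hga, hhb]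
  one_mem' := ⟨1, G.one_mem, fun i => by simp [Fin.succ_ne_zero],
    fun i j => by simp [Matrix.one_apply]⟩
  inv_mem' {a} ha := by
    obtain ⟨g, hg, hg0, hga⟩ := ha
    have hmul : ((g⁻¹ : GL (Fin (k + 1)) F) : Matrix (Fin (k + 1)) (Fin (k + 1)) F) *
        (g : Matrix (Fin (k + 1)) (Fin (k + 1)) F) = 1 := by
      rw [← Units.val_mul, inv_mul_cancel, Units.val_one]
    have hcol : ∀ i, ((g⁻¹ : GL (Fin (k + 1)) F) : Matrix (Fin (k + 1)) (Fin (k + 1)) F) i 0 *
        (g : Matrix (Fin (k + 1)) (Fin (k + 1)) F) 0 0 = (1 : Matrix (Fin (k + 1)) (Fin (k + 1)) F) i 0 := by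
      intro i
      rw [← hmul, Matrix.mul_apply, Fin.sum_univ_succ, left_eq_add]
      exact Finset.sum_eq_zero fun l _ => by rw [hg0, mul_zero]
    have h00 : (g : Matrix (Fin (k + 1)) (Fin (k + 1)) F) 0 0 ≠ 0 := by
      intro h
      have := hcol 0
      rw [h, mul_zero, Matrix.one_apply_eq] at this
      exact zero_ne_one this
    have hi0 : ∀ i : Fin k,
        ((g⁻¹ : GL (Fin (k + 1)) F) : Matrix (Fin (k + 1)) (Fin (k + 1)) F) i.succ 0 = 0 := by
      intro i
      have := hcol i.succ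
      rw [Matrix.one_apply_ne (Fin.succ_ne_zero i)] at this
      exact (mul_eq_zero.1 this).resolve_right h00
    refine ⟨g⁻¹, G.inv_mem hg, hi0, ?_⟩
    have hblk : (Matrix.of fun i j : Fin k =>
        ((g⁻¹ : GL (Fin (k + 1)) F) : Matrix (Fin (k + 1)) (Fin (k + 1)) F) i.succ j.succ) *
        (a : Matrix (Fin k) (Fin k) F) = 1 := by
      ext i j
      have := congrFun (congrFun hmul i.succ) j.succ
      rw [Matrix.mul_apply, Fin.sum_univ_succ, hi0, zero_mul, zero_add] at this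
      rw [Matrix.mul_apply]
      simp only [Matrix.of_apply, ← hga]
      rw [this, Matrix.one_apply, Matrix.one_apply]
      simp
    have hfin : (Matrix.of fun i j : Fin k =>
        ((g⁻¹ : GL (Fin (k + 1)) F) : Matrix (Fin (k + 1)) (Fin (k + 1)) F) i.succ j.succ) =
        ((a⁻¹ : GL (Fin k) F) : Matrix (Fin k) (Fin k) F) := by
      calc _ = (Matrix.of fun i j : Fin k =>
            ((g⁻¹ : GL (Fin (k + 1)) F) : Matrix (Fin (k + 1)) (Fin (k + 1)) F) i.succ j.succ) *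
            ((a : Matrix (Fin k) (Fin k) F) * ((a⁻¹ : GL (Fin k) F) : Matrix (Fin k) (Fin k) F)) := by
              rw [← Units.val_mul, mul_inv_cancel, Units.val_one, mul_one]
        _ = _ := by rw [← mul_assoc, hblk, one_mul]
    intro i j
    exact congrFun (congrFun hfin i) j

end Cfsg.Agent.Lib.Helper94.Mono
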